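import Cfsg.Agent.H759.Conj.CCNorm
import Cfsg.Agent.H937.Conj.CC
import Cfsg.Agent.H352.Conj.TE6
import Cfsg.Agent.H417.BlockCount
import Cfsg.Agent.H120.Cyc.Rows
import Cfsg.Agent.S2338
import Cfsg.Agent.S1059
import Cfsg.Agent.S1055

/-!
# S4792: the row `G₂(q)` (helper759, task 3783)
-/

set_option autoImplicit false

open Cfsg

namespace Cfsg.Agent.H759.Conj

open Cfsg.Agent.Characters.Core Cfsg.Agent.H430.Conj Cfsg.Agent.H129.CycT
open Subgroup Cfsg.Agent.M23Order.Base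

universe u

section

variable {G : Type u} [Group G] [Finite G]

/-- all elements of order `p`, `|G|_p = p` -/
theorem card_cent_of_exact {p : ℕ} (hp : p.Prime) (h : CycExact G p) (hdd : ¬ p ^ 2 ∣ Nat.card G) {y : G}
    (hy : orderOf y = p) : Nat.card (centralizer ({y} : Set G)) = p := by
  classical
  have hpF : Fact p.Prime := ⟨hp⟩
  obtain ⟨T, -, hT, hc⟩ := h
  have hTp : IsPGroup p T := IsPGroup.of_card (n := 1) (by rw [hT, pow_one])
  obtain ⟨P, hP⟩ := hTp.exists_le_sylow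
  have hd : p ∣ Nat.card G := hy ▸ orderOf_dvd_natCard y
  have hPc : Nat.card P = p := by
    have h1 : Nat.card P = p ^ (Nat.card G).factorization p := P.card_eq_multiplicity
    have h3 : (Nat.card G).factorization p = 1 := by
      apply le_antisymm
      · by_contra hlt
        apply hdd
        exact (hp.pow_dvd_iff_le_factorization Nat.card_pos.ne').2 (by omega)
      · exact (hp.dvd_iff_one_le_factorization Nat.card_pos.ne').1 hd
    rw [h1, h3, pow_one]
  have hPT : T = (P : Subgroup G) := Subgroup.eq_of_le_of_card_ge hP (by rw [hPc, hT])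
  have hz : IsPGroup p (zpowers y) := IsPGroup.of_card (n := 1) (by rw [Nat.card_zpowers, hy, pow_one])
  obtain ⟨Q, hQ⟩ := hz.exists_le_sylow
  obtain ⟨g, hg⟩ := MulAction.exists_smul_eq G Q P
  have h1 : g * y * g⁻¹ ∈ (P : Subgroup G) := by
    rw [← hg, Sylow.coe_subgroup_smul]
    exact Subgroup.smul_mem_pointwise_smul y (MulAut.conj g) _ (hQ (mem_zpowers y))
  rw [← hPT] at h1
  have h2 : g * y * g⁻¹ ≠ 1 := by
    intro h3
    have h4 : y = 1 := by
      calc y = g⁻¹ * (g * y * g⁻¹) * g := by group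
        _ = 1 := by rw [h3]; group
    rw [h4, orderOf_one] at hy
    exact hp.one_lt.ne hy
  have h3 := hc _ h1 h2
  rw [← hT, ← h3]
  refine Nat.card_congr ⟨fun x => ⟨g * x * g⁻¹, ?_⟩, fun x => ⟨g⁻¹ * x * g, ?_⟩, fun x => ?_, fun x => ?_⟩
  · have h4 := mem_centralizer_singleton_iff.1 x.2
    rw [mem_centralizer_singleton_iff]
    calc g * (x : G) * g⁻¹ * (g * y * g⁻¹) = g * (x * y) * g⁻¹ := by group
      _ = g * (y * x) * g⁻¹ := by rw [h4]
      _ = g * y * g⁻¹ * (g * x * g⁻¹) := by group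
  · have h4 := mem_centralizer_singleton_iff.1 x.2
    rw [mem_centralizer_singleton_iff]
    calc g⁻¹ * (x : G) * g * y = g⁻¹ * (x * (g * y * g⁻¹)) * g := by group
      _ = g⁻¹ * ((g * y * g⁻¹) * x) * g := by rw [h4]
      _ = y * (g⁻¹ * x * g) := by group
  · apply Subtype.ext
    show g⁻¹ * (g * (x : G) * g⁻¹) * g = x
    group
  · apply Subtype.ext
    show g * (g⁻¹ * (x : G) * g) * g⁻¹ = x
    group

/-- Tool M for an exact torus -/
theorem row_of_exact' [IsSimpleGroup G] {m w : ℕ} (h : CycExact G m) (hm : 1 < m) (hw : Nat.card G / m % m = w)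
    (hd : ∀ (χ : G → ℂ) (d : ℕ), IsIrrCharacter G χ → χ ≠ 1 → χ 1 = d →
      (∀ n : ℕ, n ^ 2 < m → d ≠ w * n) ∧ ∀ k : ℕ, k ^ 2 * (m - 1) < w * m → d ≠ k * (m - 1)) : Row G := by
  obtain ⟨T, hT0, hT, hc⟩ := h
  have hT1 : T ≠ ⊥ := by
    rintro rfl
    rw [Subgroup.card_bot] at hT
    omega
  obtain ⟨w', h1, -, -, h4⟩ := card_normalizer hT1 hc hT0
  have h5 : w' = w := by rw [← h4, hT, hw]
  subst h5
  exact row_of_cc' hT1 hc h1 (by rw [hT]; exact hd)

end

section

variable {F : Type} [Field F] [Fintype F]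

theorem exists_elt (h3 : 3 ≤ Fintype.card F) : ∃ a : F, a ≠ 0 ∧ a ≠ 1 := by
  classical
  by_contra hcon
  push Not at hcon
  have h1 : (Finset.univ : Finset F) ⊆ {0, 1} := by
    intro a _
    by_cases h : a = 0
    · rw [h]; simp
    · rw [hcon a h]; simp
  have h2 := Finset.card_le_card h1
  rw [Finset.card_univ] at h2
  have h3' : ({0, 1} : Finset F).card ≤ 2 := Finset.card_le_two
  omega

/-- `G₂(q)` -/
theorem row_G2 (h3 : 3 ≤ Fintype.card F) : Row ↥(Cfsg.Lie.chevG2.group F) := by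
  classical
  obtain ⟨hs, hna⟩ := Cfsg.Agent.S1055.result (exists_elt h3)
  have hcard := Cfsg.Agent.S1059.result (F := F) rfl
  have hmin := Cfsg.Agent.H120.CycExc.minDeg_G2 F
  have hdeg := fun k ρ hρ hk => Cfsg.Agent.S2338.result (F := F) k ρ hρ hk
  set q := Fintype.card F with hq
  have hodd : (q ^ 2 - q + 1) = q * (q - 1) + 1 := by
    rw [Nat.mul_sub, mul_one, sq]
  have hlt : q ≤ q ^ 2 := Nat.le_self_pow (by norm_num) q
  have hcast : ((q ^ 2 - q + 1 : ℕ) : ℤ) = 1 - (q : ℤ) + (q : ℤ) ^ 2 := by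
    push_cast [Nat.cast_sub hlt]
    ring
  rcases (by omega : q % 3 = 1 ∨ q % 3 = 2 ∨ q % 3 = 0) with hm | hm | hm
  · -- `q ≡ 1`
    have h3N : ¬ 3 ∣ q ^ 2 - q + 1 := by
      intro h
      have h1 : ((3 : ℕ) : ℤ) ∣ ((q ^ 2 - q + 1 : ℕ) : ℤ) := Int.natCast_dvd_natCast.2 h
      rw [hcast] at h1
      obtain ⟨k, hk⟩ : ∃ k : ℤ, (q : ℤ) = 3 * k + 1 := ⟨(q / 3 : ℕ), by omega⟩
      rw [hk] at h1
      obtain ⟨c, hc⟩ := h1
      have : (3 : ℤ) * (c - 3 * k ^ 2 - k) = 1 := by push_cast at hc; linarith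
      omega
    have hE := exact_G2_6 (F := F) hq.symm hcast h3N
    by_cases h4 : q = 4
    · -- `q = 4`
      have hp13 : Nat.Prime 13 := by norm_num
      have hpF : Fact (Nat.Prime 13) := ⟨hp13⟩
      rw [h4] at hE hcard hmin
      replace hE : CycExact ↥(Cfsg.Lie.chevG2.group F) 13 := hE
      replace hcard : Nat.card ↥(Cfsg.Lie.chevG2.group F) = 251596800 := hcard.trans (by norm_num)
      have hdd : ¬ 13 ^ 2 ∣ Nat.card ↥(Cfsg.Lie.chevG2.group F) := by rw [hcard]; norm_num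
      obtain ⟨P, hP, ⟨D⟩⟩ := H417.BlockCount.exists_SC (G := ↥(Cfsg.Lie.chevG2.group F)) 13 (by norm_num)
        (by rw [hcard]; norm_num) hdd (fun y hy => card_cent_of_exact hp13 hE hdd hy) (e := 6) (t := 2)
        (by rw [hcard]) (by norm_num)
      refine row_of_exact' (w := 6) hE (by norm_num) (by rw [hcard]) fun χ d h5 h6 h7 => ?_
      have h8 : 15 ≤ d := Cfsg.Agent.H352.Conj.deg_of_rep hna (fun k ρ hρ hk => hmin.1.irr k ρ hρ hk) χ d h5 h6 h7
      have h9 := H417.BlockCount.mod_cases D (by norm_num) (by norm_num) (by norm_num) ⟨χ, h5⟩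
      rw [dg_of_eq h7] at h9
      refine ⟨fun n hn => ?_, fun k hk => ?_⟩
      · have : n ≤ 3 := by nlinarith
        interval_cases n <;> omega
      · have : k ≤ 2 := by nlinarith
        interval_cases k <;> omega
    · have h7 : 7 ≤ q := by omega
      refine Cfsg.Agent.H352.Conj.row_of_exact (b := q ^ 3 + 1) hE ?_
        (Cfsg.Agent.H352.Conj.deg_of_rep hna fun k ρ hρ hk => (hdeg k ρ hρ hk).1 hm (by omega)) ?_
      · have : 7 ≤ q ^ 2 - q + 1 := by
          rw [hodd]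
          nlinarith [Nat.mul_le_mul h7 (show 1 ≤ q - 1 by omega)]
        omega
      · have h1 : q ^ 2 - q + 1 ≤ q ^ 2 := by omega
        calc (q ^ 2 - q + 1) ^ 2 * (q ^ 2 - q + 1 - 1) ≤ (q ^ 2) ^ 2 * q ^ 2 :=
              Nat.mul_le_mul (Nat.pow_le_pow_left h1 2) ((Nat.sub_le _ _).trans h1)
          _ = (q ^ 3) ^ 2 := by ring
          _ ≤ (q ^ 3 + 1) ^ 2 := Nat.pow_le_pow_left (Nat.le_succ _) 2
  · -- `q ≡ 2`
    have h5 : 5 ≤ q := by omega
    obtain ⟨N, hN⟩ : ∃ N, N = q ^ 2 + q + 1 := ⟨_, rfl⟩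
    have h3N : ¬ 3 ∣ N := by
      obtain ⟨k, hk⟩ : ∃ k : ℕ, q = 3 * k + 2 := ⟨q / 3, by omega⟩
      rintro ⟨c, hc⟩
      rw [hN, hk] at hc
      ring_nf at hc
      omega
    have hE := exact_G2_3 (F := F) hq.symm (N := N) (by rw [hN]; push_cast; ring) h3N
    refine row_of_exact' (w := 6) hE (by rw [hN]; nlinarith) ?_ fun χ d h6 h7 h8 => ?_
    · -- the order
      rw [hcard]
      obtain ⟨a, ha⟩ : ∃ a, q = a + 5 := ⟨q - 5, by omega⟩
      have e1 : q ^ 2 - 1 = (a + 4) * (a + 6) := by rw [ha, Nat.sub_eq_iff_eq_add (by nlinarith)]; ring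
      have e2 : q ^ 6 - 1 = N * ((a + 4) * (q ^ 3 + 1)) := by
        rw [hN, ha, Nat.sub_eq_iff_eq_add (Nat.one_le_pow _ _ (by omega))]; ring
      have e3 : q ^ 6 * (q ^ 2 - 1) * (q ^ 6 - 1) / N = q ^ 6 * (q ^ 2 - 1) * ((a + 4) * (q ^ 3 + 1)) := by
        rw [e2, show q ^ 6 * (q ^ 2 - 1) * (N * ((a + 4) * (q ^ 3 + 1))) =
          q ^ 6 * (q ^ 2 - 1) * ((a + 4) * (q ^ 3 + 1)) * N by ring]
        exact Nat.mul_div_cancel _ (by omega)
      rw [e3, e1]
      have e4 : q ^ 6 * ((a + 4) * (a + 6)) * ((a + 4) * (q ^ 3 + 1)) ≡ 6 [MOD N] := by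
        have hq3 : (q : ZMod N) ^ 2 + q + 1 = 0 := by
          have : ((N : ℕ) : ZMod N) = 0 := ZMod.natCast_self N
          rw [hN] at this ⊢
          exact_mod_cast this
        rw [← ZMod.natCast_eq_natCast_iff]
        have ha' : (a : ZMod N) = q - 5 := by rw [ha]; push_cast; ring
        push_cast
        rw [ha']
        have h1 : (q : ZMod N) ^ 3 = 1 := by linear_combination ((q : ZMod N) - 1) * hq3
        have h2 : (q : ZMod N) ^ 6 = 1 := by
          calc (q : ZMod N) ^ 6 = ((q : ZMod N) ^ 3) ^ 2 := by ring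
            _ = 1 := by rw [h1]; ring
        rw [h1, h2]
        linear_combination (2 * (q : ZMod N) - 4) * hq3
      have h6N : 6 < N := by rw [hN]; nlinarith
      rw [Nat.ModEq, Nat.mod_eq_of_lt h6N] at e4
      exact e4
    · have h9 : q ^ 3 - 1 ≤ d := Cfsg.Agent.H352.Conj.deg_of_rep hna
        (fun k ρ hρ hk => (hdeg k ρ hρ hk).2.1 hm (by omega)) χ d h6 h7 h8
      have h10 : 5 * q ^ 2 ≤ q ^ 3 := by
        rw [pow_succ q 2, mul_comm (q ^ 2)]
        exact Nat.mul_le_mul_right _ h5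
      have h11 : 5 * q ≤ q ^ 2 := by rw [sq]; exact Nat.mul_le_mul_right _ h5
      refine ⟨fun n hn => ?_, fun k hk => ?_⟩
      · have h12 : n ≤ q := by
          by_contra hcon
          have : q + 1 ≤ n := by omega
          have := Nat.pow_le_pow_left this 2
          rw [hN] at hn
          nlinarith
        omega
      · have h12 : k ≤ 2 := by
          by_contra hcon
          have : 3 ≤ k := by omega
          have h13 := Nat.pow_le_pow_left this 2
          have h14 := Nat.mul_le_mul_right (N - 1) h13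
          have : 3 < N := by rw [hN]; nlinarith
          omega
        have h13 : k * (N - 1) ≤ 2 * (N - 1) := Nat.mul_le_mul_right _ h12
        have h14 : N - 1 = q ^ 2 + q := by omega
        omega
  · -- `q ≡ 0`
    have h3N : ¬ 3 ∣ q ^ 2 - q + 1 := by
      intro h
      have h1 : ((3 : ℕ) : ℤ) ∣ ((q ^ 2 - q + 1 : ℕ) : ℤ) := Int.natCast_dvd_natCast.2 h
      rw [hcast] at h1
      obtain ⟨k, hk⟩ : ∃ k : ℤ, (q : ℤ) = 3 * k := ⟨(q / 3 : ℕ), by omega⟩
      rw [hk] at h1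
      obtain ⟨c, hc⟩ := h1
      have : (3 : ℤ) * (c - 3 * k ^ 2 + k) = 1 := by push_cast at hc; linarith
      omega
    have hE := exact_G2_6 (F := F) hq.symm hcast h3N
    by_cases h4 : q = 3
    · -- `q = 3`
      have hp7 : Nat.Prime 7 := by norm_num
      have hpF : Fact (Nat.Prime 7) := ⟨hp7⟩
      rw [h4] at hE hcard hmin
      replace hE : CycExact ↥(Cfsg.Lie.chevG2.group F) 7 := hE
      replace hcard : Nat.card ↥(Cfsg.Lie.chevG2.group F) = 4245696 := hcard.trans (by norm_num)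
      have hdd : ¬ 7 ^ 2 ∣ Nat.card ↥(Cfsg.Lie.chevG2.group F) := by rw [hcard]; norm_num
      obtain ⟨P, hP, ⟨D⟩⟩ := H417.BlockCount.exists_SC (G := ↥(Cfsg.Lie.chevG2.group F)) 7 (by norm_num)
        (by rw [hcard]; norm_num) hdd (fun y hy => card_cent_of_exact hp7 hE hdd hy) (e := 6) (t := 1)
        (by rw [hcard]) (by norm_num)
      refine row_of_exact' (w := 6) hE (by norm_num) (by rw [hcard]) fun χ d h5 h6 h7 => ?_
      have h8 : 12 ≤ d := Cfsg.Agent.H352.Conj.deg_of_rep hna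
        (fun k ρ hρ hk => (hmin.2 (by norm_num) (by norm_num)).irr k ρ hρ hk) χ d h5 h6 h7
      have h9 := H417.BlockCount.mod_cases D (by norm_num) (by norm_num) (by norm_num) ⟨χ, h5⟩
      rw [dg_of_eq h7] at h9
      refine ⟨fun n hn => ?_, fun k hk => ?_⟩
      · have : n ≤ 2 := by nlinarith
        interval_cases n <;> omega
      · have : k ≤ 2 := by nlinarith
        interval_cases k <;> omega
    · have h7 : 6 ≤ q := by omega
      refine Cfsg.Agent.H352.Conj.row_of_exact (b := q ^ 4 + q ^ 2 + 1) hE ?_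
        (Cfsg.Agent.H352.Conj.deg_of_rep hna fun k ρ hρ hk => (hdeg k ρ hρ hk).2.2 hm (by omega)) ?_
      · have : 6 ≤ q ^ 2 - q + 1 := by
          rw [hodd]
          nlinarith [Nat.mul_le_mul h7 (show 1 ≤ q - 1 by omega)]
        omega
      · have h1 : q ^ 2 - q + 1 ≤ q ^ 2 := by omega
        calc (q ^ 2 - q + 1) ^ 2 * (q ^ 2 - q + 1 - 1) ≤ (q ^ 2) ^ 2 * q ^ 2 :=
              Nat.mul_le_mul (Nat.pow_le_pow_left h1 2) ((Nat.sub_le _ _).trans h1)
          _ = (q ^ 3) ^ 2 := by ring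
          _ ≤ (q ^ 4) ^ 2 := Nat.pow_le_pow_left (Nat.pow_le_pow_right (by omega) (by norm_num)) 2
          _ ≤ (q ^ 4 + q ^ 2 + 1) ^ 2 := Nat.pow_le_pow_left (by omega) 2

end

/-- **the row `G₂(q)`** -/
theorem row_g2 {S : Type*} [Group S] [Finite S] (h : Cfsg.Lie.IsoChevG2 S) (_hs : IsSimpleGroup S) : Row S := by
  obtain ⟨F, _, _, h3, ⟨e⟩⟩ := h
  exact Row.of_equiv e.symm (row_G2 h3)

end Cfsg.Agent.H759.Conj
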